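import Groth.Agent.PrincBundLib.Descends
import Groth.Prelude.Def_ActBC
import Mathlib

/-!
# Morphisms of flat schemes over a domain are determined generically
-/

set_option linter.style.haveILetI false
set_option backward.isDefEq.respectTransparency false

universe u

open CategoryTheory CategoryTheory.Limits MonoidalCategory CartesianMonoidalCategory MonObj
  AlgebraicGeometry

open scoped TensorProduct

noncomputable section

namespace Groth.Agent.PrincBundLib

/-- Morphisms out of an affine scheme agreeing after a schematically dominant precomposition. -/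
theorem eq_of_appTop_injective {V X Y S : Scheme.{u}} [IsAffine X] (j : V ⟶ X)
    (hj : Function.Injective j.appTop) (pY : Y ⟶ S) [IsSeparated pY] {f g : X ⟶ Y}
    (h : f ≫ pY = g ≫ pY) (hfg : j ≫ f = j ≫ g) : f = g := by
  let X' : Over S := Over.mk (f ≫ pY)
  let Y' : Over S := Over.mk pY
  let f' : X' ⟶ Y' := Over.homMk f
  let g' : X' ⟶ Y' := Over.homMk g h.symm
  let j' : Over.mk (j ≫ f ≫ pY) ⟶ X' := Over.homMk j
  haveI : IsSeparated Y'.hom := ‹_›
  let e := (equalizer.ι f' g').left
  let l := (equalizer.lift j' (Over.OverMorphism.ext hfg) : _ ⟶ equalizer f' g').left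
  have hl : l ≫ e = j := by
    show ((equalizer.lift j' _ : _ ⟶ equalizer f' g') ≫ equalizer.ι f' g').left = _
    rw [equalizer.lift_ι]; rfl
  haveI : IsAffine X'.left := ‹_›
  haveI : IsIso e := by
    refine IsClosedImmersion.isIso_of_injective_of_isAffine ?_
    intro a b hab
    apply hj
    rw [← hl, Scheme.Hom.comp_appTop]
    exact congrArg l.appTop hab
  rw [← cancel_epi e]
  exact congrArg (fun m : _ ⟶ Y' => m.left) (equalizer.condition f' g')

variable {R : Type u} [CommRing R] [IsDomain R] (K : Type u) [Field K] [Algebra R K] [IsFractionRing R K]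

theorem generic_affine {X Y : Over (Spec (CommRingCat.of R))} [IsSeparated Y.hom] {A : CommRingCat.{u}}
    (j : Spec A ⟶ X.left) [Flat (j ≫ X.hom)] {f g : X ⟶ Y}
    (h : pullTo X (Spec.map (CommRingCat.ofHom (algebraMap R K))) ≫ f =
      pullTo X (Spec.map (CommRingCat.ofHom (algebraMap R K))) ≫ g) : j ≫ f.left = j ≫ g.left := by
  obtain ⟨φ, hφ⟩ := Spec.map_surjective (j ≫ X.hom)
  letI : Algebra R A := φ.hom.toAlgebra
  haveI : Module.Flat R A := by
    have h1 : Flat (Spec.map φ) := by rw [hφ]; infer_instance
    exact RingHom.flat_algebraMap_iff.mp ((HasRingHomProperty.Spec_iff (P := @Flat)).mp h1)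
  let e := Spec.map (CommRingCat.ofHom (algebraMap R K))
  let inc : Spec (CommRingCat.of (A ⊗[R] K)) ⟶ Spec A :=
    Spec.map (CommRingCat.ofHom Algebra.TensorProduct.includeLeftRingHom)
  let l : Spec (CommRingCat.of (A ⊗[R] K)) ⟶ pullback X.hom e :=
    pullback.lift (inc ≫ j) (Spec.map (CommRingCat.ofHom
      (Algebra.TensorProduct.includeRight (R := R) (A := A) (B := K)).toRingHom)) (by
        rw [Category.assoc, ← hφ, ← Spec.map_comp, ← Spec.map_comp]
        congr 1
        ext r
        exact ((Algebra.TensorProduct.includeRight (R := R) (A := A) (B := K)).commutes r).symm)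
  refine eq_of_appTop_injective inc ?_ Y.hom ?_ ?_
  · have h1 : Function.Injective (Algebra.TensorProduct.includeLeftRingHom : A →+* A ⊗[R] K) :=
      Algebra.TensorProduct.includeLeft_injective (S := R) (IsFractionRing.injective R K)
    have h2 := Scheme.ΓSpecIso_inv_naturality (CommRingCat.ofHom
      (Algebra.TensorProduct.includeLeftRingHom : A →+* A ⊗[R] K))
    intro a b hab
    obtain ⟨a, rfl⟩ := (ConcreteCategory.bijective_of_isIso (Scheme.ΓSpecIso A).inv).2 a
    obtain ⟨b, rfl⟩ := (ConcreteCategory.bijective_of_isIso (Scheme.ΓSpecIso A).inv).2 b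
    refine congrArg _ (h1 ?_)
    apply (ConcreteCategory.bijective_of_isIso (Scheme.ΓSpecIso (CommRingCat.of (A ⊗[R] K))).inv).1
    exact ((congr($h2 a)).trans hab).trans (congr($h2 b)).symm
  · rw [Category.assoc, Category.assoc, Over.w, Over.w]
  · have h3 := congrArg (fun m => l ≫ m.left) h
    change l ≫ pullback.fst _ _ ≫ f.left = l ≫ pullback.fst _ _ ≫ g.left at h3
    rw [← Category.assoc, pullback.lift_fst, Category.assoc] at h3
    rw [h3, ← Category.assoc, pullback.lift_fst, Category.assoc]

theorem ext_generic {X Y : Over (Spec (CommRingCat.of R))} [Flat X.hom] [IsSeparated Y.hom]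
    {f g : X ⟶ Y}
    (h : pullTo X (Spec.map (CommRingCat.ofHom (algebraMap R K))) ≫ f =
      pullTo X (Spec.map (CommRingCat.ofHom (algebraMap R K))) ≫ g) : f = g := by
  apply Over.OverMorphism.ext
  let 𝒰 := X.left.affineOpenCover
  exact Scheme.Cover.hom_ext 𝒰.openCover _ _ fun i => generic_affine K (𝒰.f i) h

end Groth.Agent.PrincBundLib
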