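import Groth.Agent.PrincBundLib.Descent

/-!
# Properties of torsors inherited from the group
-/

set_option linter.style.haveILetI false
set_option backward.isDefEq.respectTransparency false

universe u

open CategoryTheory CategoryTheory.Limits MonoidalCategory CartesianMonoidalCategory MonObj
  AlgebraicGeometry

noncomputable section

namespace Groth.Agent.PrincBundLib

variable {S : Scheme.{u}} {G X : Over S} [GrpObj G]

omit [GrpObj G] in
theorem exists_affine_section (hloc : NonAbH1.IsLocallyTrivialFor Scheme.fpqcPrecoverage X)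
    {U : S.Opens} (hU : IsAffineOpen U) :
    ∃ (Q : Scheme.{u}) (q : Q ⟶ (U : Scheme.{u})) (s : Q ⟶ X.left), s ≫ X.hom = q ≫ U.ι ∧
      Flat q ∧ Surjective q ∧ QuasiCompact q := by
  obtain ⟨R, hR, hs⟩ := hloc
  obtain ⟨K, P, c, rfl⟩ := R.exists_eq_ofArrows
  have hs' : ∀ k, ∃ x : P k ⟶ X.left, x ≫ X.hom = c k := fun k => hs _ (Presieve.ofArrows.mk k)
  choose x hx using hs'
  obtain ⟨hqc, hfl⟩ := hR
  let 𝒰 : PreZeroHypercover S := ⟨K, P, c⟩
  haveI : QuasiCompactCover 𝒰 := Scheme.presieve₀_mem_qcPrecoverage_iff.mp hqc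
  obtain ⟨-, hflat⟩ := (Scheme.ofArrows_mem_precoverage_iff _).mp hfl
  obtain ⟨n, idx, V, hV, hcov⟩ :=
    QuasiCompactCover.exists_isAffineOpen_of_isCompact 𝒰 hU.isCompact
  let Y : ULift.{u} (Fin n) → Scheme.{u} := fun k => (V k.down : Scheme.{u})
  haveI : ∀ k, IsAffine (Y k) := fun k => hV k.down
  let p : ∐ Y ⟶ S := Sigma.desc fun k => (V k.down).ι ≫ c (idx k.down)
  haveI : Flat p := IsZariskiLocalAtSource.sigmaDesc fun k => by
    haveI : Flat (c (idx k.down)) := hflat _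
    infer_instance
  have hrange : Set.range p = (U : Set S) := by
    ext s
    constructor
    · rintro ⟨z, rfl⟩
      obtain ⟨k, y, rfl⟩ : ∃ k, ∃ y : Y k, Sigma.ι Y k y = z := by
        obtain ⟨k, y, hy⟩ := (sigmaOpenCover Y).exists_eq z
        exact ⟨k, y, hy⟩
      rw [← hcov, ← Scheme.Hom.comp_apply, Sigma.ι_desc, Scheme.Hom.comp_apply]
      exact Set.mem_iUnion.mpr ⟨k.down, _, y.2, rfl⟩
    · rw [← hcov]
      rintro hs
      obtain ⟨k, z, hz, rfl⟩ := Set.mem_iUnion.mp hs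
      refine ⟨Sigma.ι Y ⟨k⟩ ⟨z, hz⟩, ?_⟩
      rw [← Scheme.Hom.comp_apply, Sigma.ι_desc, Scheme.Hom.comp_apply]
      rfl
  let l : ∐ Y ⟶ (U : Scheme.{u}) :=
    IsOpenImmersion.lift U.ι p (by rw [hrange, Scheme.Opens.range_ι])
  have hl : l ≫ U.ι = p := IsOpenImmersion.lift_fac _ _ _
  haveI : IsAffine (U : Scheme.{u}) := hU
  refine ⟨∐ Y, l, Sigma.desc fun k => (V k.down).ι ≫ x (idx k.down), ?_, ?_, ⟨fun t => ?_⟩,
    inferInstance⟩
  · rw [hl]
    refine Sigma.hom_ext _ _ fun k => ?_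
    rw [Sigma.ι_desc_assoc, Category.assoc, hx, Sigma.ι_desc]
  · have hpb : IsPullback (𝟙 (∐ Y)) l (l ≫ U.ι) U.ι :=
      ⟨⟨Category.id_comp _⟩, ⟨PullbackCone.isLimitAux' _ fun c =>
        ⟨c.fst, Category.comp_id _, (cancel_mono U.ι).mp ((Category.assoc _ _ _).trans c.condition),
          fun hm _ => (Category.comp_id _).symm.trans hm⟩⟩⟩
    exact MorphismProperty.of_isPullback hpb (by rw [hl]; infer_instance)
  · obtain ⟨z, hz⟩ : (t.1 : S) ∈ Set.range p := hrange ▸ t.2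
    refine ⟨z, U.ι.isOpenEmbedding.injective ?_⟩
    rw [← Scheme.Hom.comp_apply, hl]
    exact hz

/-- A property local on the base which descends along fpqc maps passes from the group to torsors. -/
theorem property_of_torsor (P : MorphismProperty Scheme.{u}) [IsZariskiLocalAtTarget P]
    [P.IsStableUnderBaseChange] [P.DescendsAlong (@Surjective ⊓ @Flat ⊓ @QuasiCompact)]
    (a : AlgGrp.Action G X) (ha : NonAbH1.IsTorsorFor Scheme.fpqcPrecoverage a) (hG : P G.hom) :
    P X.hom := by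
  let 𝒰 : S.OpenCover := S.openCoverOfIsOpenCover (fun U : S.affineOpens => (U.1 : S.Opens))
    (top_le_iff.mp fun s _ => by
      obtain ⟨U, hU, hsU, -⟩ := exists_isAffineOpen_mem_and_subset (U := ⊤)
        (show s ∈ (⊤ : S.Opens) from trivial)
      exact TopologicalSpace.Opens.mem_iSup.mpr ⟨⟨U, hU⟩, hsU⟩)
  refine IsZariskiLocalAtTarget.of_openCover (P := P) 𝒰 fun (U : S.affineOpens) => ?_
  obtain ⟨Q, q, s, hsq, hqf, hqs, hqc⟩ := exists_affine_section ha.2 U.2
  show P (pullback.snd X.hom U.1.ι)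
  let e : Over.mk (q ≫ U.1.ι) ⟶ X := Over.homMk s hsq
  haveI : IsIso (lift ((G ◁ e) ≫ a.act) (snd G (Over.mk (q ≫ U.1.ι)))) :=
    (isIso_lift_snd_iff _).mpr fun T x w => by
      simp only [orbit_eq]
      exact (isIso_lift_snd_iff a.act).mp ha.1 T x _
  let Φ := asIso (lift ((G ◁ e) ≫ a.act) (snd G (Over.mk (q ≫ U.1.ι))))
  have h1 : Φ.hom.left ≫ pullback.snd X.hom (q ≫ U.1.ι) = pullback.snd G.hom (q ≫ U.1.ι) :=
    congrArg (fun m => m.left) (lift_snd ((G ◁ e) ≫ a.act) (snd G (Over.mk (q ≫ U.1.ι))))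
  haveI : IsIso Φ.hom.left := inferInstanceAs (IsIso ((Over.forget S).map Φ.hom))
  have hX : P (pullback.snd X.hom (q ≫ U.1.ι)) := by
    have h2 : P (Φ.hom.left ≫ pullback.snd X.hom (q ≫ U.1.ι)) := by
      rw [h1]
      exact P.pullback_snd _ _ hG
    exact (P.cancel_left_of_respectsIso Φ.hom.left _).mp h2
  let top : pullback X.hom (q ≫ U.1.ι) ⟶ pullback X.hom U.1.ι :=
    pullback.lift (pullback.fst _ _) (pullback.snd _ _ ≫ q) (by rw [pullback.condition, Category.assoc])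
  have h3 : IsPullback top (pullback.snd X.hom (q ≫ U.1.ι)) (pullback.snd X.hom U.1.ι) q :=
    IsPullback.of_right (by rw [show top ≫ pullback.fst X.hom U.1.ι = pullback.fst _ _ from
      pullback.lift_fst _ _ _]; exact IsPullback.of_hasPullback X.hom (q ≫ U.1.ι))
      (pullback.lift_snd _ _ _) (IsPullback.of_hasPullback X.hom U.1.ι)
  exact MorphismProperty.of_isPullback_of_descendsAlong (P := P)
    (Q := @Surjective ⊓ @Flat ⊓ @QuasiCompact) h3.flip ⟨⟨hqs, hqf⟩, hqc⟩ hX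

end Groth.Agent.PrincBundLib
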