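import Groth.Agent.PrincBundLib.Generic

/-!
# Extending morphisms of torsors from the generic fibre
-/

set_option linter.style.haveILetI false
set_option backward.isDefEq.respectTransparency false

universe u

open CategoryTheory CategoryTheory.Limits MonoidalCategory CartesianMonoidalCategory MonObj
  AlgebraicGeometry

noncomputable section

namespace Groth.Agent.PrincBundLib

section transport

variable {S E : Scheme.{u}} (e : E ⟶ S) {G P Q : Over S}

/-- A test object over `E` regarded over the base. -/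
def genIso (V : Over S) (t : V.left ⟶ E) (ht : t ≫ e = V.hom) :
    (Over.map e).obj (Over.mk t) ≅ V :=
  Over.isoMk (Iso.refl _) (by simp [ht])

/-- Points over `E` of the base change. -/
def genEquiv (V : Over S) (t : V.left ⟶ E) (ht : t ≫ e = V.hom) (W : Over S) :
    (V ⟶ W) ≃ (Over.mk t ⟶ (Over.pullback e).obj W) :=
  (Iso.homFromEquiv (genIso e V t ht).symm).trans ((Over.mapPullbackAdj e).homEquiv _ W)

theorem genEquiv_apply (V : Over S) (t : V.left ⟶ E) (ht : t ≫ e = V.hom) (W : Over S) (p : V ⟶ W) :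
    genEquiv e V t ht W p =
      (Over.mapPullbackAdj e).homEquiv _ W ((genIso e V t ht).hom ≫ p) := rfl

/-- The effect on points of a morphism of generic fibres. -/
def transp (φ : (Over.pullback e).obj P ⟶ (Over.pullback e).obj Q) (V : Over S) (t : V.left ⟶ E)
    (ht : t ≫ e = V.hom) (p : V ⟶ P) : V ⟶ Q :=
  (genEquiv e V t ht Q).symm (genEquiv e V t ht P p ≫ φ)

theorem genEquiv_transp (φ : (Over.pullback e).obj P ⟶ (Over.pullback e).obj Q) (V : Over S)
    (t : V.left ⟶ E) (ht : t ≫ e = V.hom) (p : V ⟶ P) :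
    genEquiv e V t ht Q (transp e φ V t ht p) = genEquiv e V t ht P p ≫ φ :=
  Equiv.apply_symm_apply _ _

theorem genEquiv_comp {V V' : Over S} (v : V' ⟶ V) (t : V.left ⟶ E) (ht : t ≫ e = V.hom)
    (t' : V'.left ⟶ E) (ht' : t' ≫ e = V'.hom) (hv : v.left ≫ t = t') (W : Over S) (p : V ⟶ W) :
    genEquiv e V' t' ht' W (v ≫ p) =
      (Over.homMk v.left hv : Over.mk t' ⟶ Over.mk t) ≫ genEquiv e V t ht W p := by
  rw [genEquiv_apply, genEquiv_apply, ← Adjunction.homEquiv_naturality_left, ← Category.assoc,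
    ← Category.assoc]
  congr 2

theorem transp_comp [Mono e] (φ : (Over.pullback e).obj P ⟶ (Over.pullback e).obj Q) {V V' : Over S}
    (v : V' ⟶ V) (t : V.left ⟶ E) (ht : t ≫ e = V.hom) (t' : V'.left ⟶ E)
    (ht' : t' ≫ e = V'.hom) (p : V ⟶ P) :
    transp e φ V' t' ht' (v ≫ p) = v ≫ transp e φ V t ht p := by
  have hv : v.left ≫ t = t' := by rw [← cancel_mono e, Category.assoc, ht, Over.w, ht']
  apply (genEquiv e V' t' ht' Q).injective
  rw [genEquiv_transp, genEquiv_comp e v t ht t' ht' hv, genEquiv_comp e v t ht t' ht' hv,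
    genEquiv_transp, Category.assoc]

variable [GrpObj G]

theorem transp_act {a : AlgGrp.Action G P} {a' : AlgGrp.Action G Q} (φ : Red.bc e P ⟶ Red.bc e Q)
    (hφ : AlgGrp.Action.IsEquivariant (a.bc e) (a'.bc e) φ) (V : Over S) (t : V.left ⟶ E)
    (ht : t ≫ e = V.hom) (g : V ⟶ G) (p : V ⟶ P) :
    transp e φ V t ht (lift g p ≫ a.act) = lift g (transp e φ V t ht p) ≫ a'.act := by
  apply (genEquiv e V t ht Q).injective
  rw [genEquiv_transp]
  have h : ∀ {W : Over S} (b : AlgGrp.Action G W) (w : V ⟶ W),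
      genEquiv e V t ht W (lift g w ≫ b.act) =
        lift (genEquiv e V t ht G g) (genEquiv e V t ht W w) ≫ (b.bc e).act := fun b w => by
    rw [genEquiv_apply, genEquiv_apply, genEquiv_apply, AlgGrp.Action.lift_homEquiv_bc_act,
      ← Category.assoc, comp_lift]
  refine (congrArg (fun m => m ≫ φ) (h a p)).trans (Eq.trans ?_ (h a' _).symm)
  show (lift _ _ ≫ (a.bc e).act) ≫ φ = _
  rw [Category.assoc, hφ, lift_whiskerLeft_assoc, genEquiv_transp]

end transport

variable {R : Type u} [CommRing R] [IsDomain R] (K : Type u) [Field K] [Algebra R K] [IsFractionRing R K]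

instance mono_genPt : Mono (Spec.map (CommRingCat.ofHom (algebraMap R K))) := by
  haveI : IsPreimmersion (Spec.map (CommRingCat.ofHom (algebraMap R K))) :=
    IsPreimmersion.of_isLocalization (nonZeroDivisors R)
  infer_instance

variable {G P Q : Over (Spec (CommRingCat.of R))} [GrpObj G]

/-- An equivariant morphism of generic fibres extends if it does so on a quasi-section. -/
theorem exists_equivariant_ext [Flat G.hom] [Flat P.hom] [IsSeparated Q.hom]
    (a : AlgGrp.Action G P) (hP : NonAbH1.IsPseudoTorsorSch a) (a' : AlgGrp.Action G Q)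
    (φ : Red.bc (Spec.map (CommRingCat.ofHom (algebraMap R K))) P ⟶
      Red.bc (Spec.map (CommRingCat.ofHom (algebraMap R K))) Q)
    (hφ : AlgGrp.Action.IsEquivariant (a.bc _) (a'.bc _) φ)
    {T₀ : Scheme.{u}} (q : T₀ ⟶ Spec (CommRingCat.of R)) [Flat q] [Surjective q] [QuasiCompact q]
    (x : Over.mk q ⟶ P) (y : Over.mk q ⟶ Q)
    (hy : pullTo (Over.mk q) (Spec.map (CommRingCat.ofHom (algebraMap R K))) ≫ y =
      transp _ φ (pullObj (Over.mk q) _) (pullback.snd _ _) pullback.condition.symm
        (pullTo (Over.mk q) _ ≫ x)) :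
    ∃ f : P ⟶ Q, AlgGrp.Action.IsEquivariant a a' f := by
  let e := Spec.map (CommRingCat.ofHom (algebraMap R K))
  have hq : Presieve.ofArrows (fun _ : PUnit.{u + 1} => T₀) (fun _ => q) ∈
      Scheme.fpqcPrecoverage (Spec (CommRingCat.of R)) := by
    rw [Presieve.ofArrows_pUnit]
    exact q.singleton_mem_fpqcPrecoverage
  let V := pullObj P q
  obtain ⟨g, hg, -⟩ := (isIso_lift_snd_iff a.act).mp hP V (pullTo P q) (pullSnd P q ≫ x)
  let h : V ⟶ Q := lift g (pullSnd P q ≫ y) ≫ a'.act
  have gen : ∀ (W : Over (Spec (CommRingCat.of R))) (t : W.left ⟶ Spec (CommRingCat.of K))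
      (ht : t ≫ e = W.hom) (v : W ⟶ V), v ≫ h = transp e φ W t ht (v ≫ pullTo P q) := by
    intro W t ht v
    let w' : W ⟶ pullObj (Over.mk q) e :=
      Over.homMk (pullback.lift (v ≫ pullSnd P q).left t ((Over.w (v ≫ pullSnd P q)).trans ht.symm))
        (by
          show pullback.lift _ _ _ ≫ pullback.fst _ _ ≫ _ = _
          rw [pullback.lift_fst_assoc]
          exact Over.w (v ≫ pullSnd P q))
    have hw : w' ≫ pullTo (Over.mk q) e = v ≫ pullSnd P q :=
      Over.OverMorphism.ext (pullback.lift_fst _ _ _)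
    have h1 : v ≫ pullSnd P q ≫ y = transp e φ W t ht (v ≫ pullSnd P q ≫ x) := by
      rw [← Category.assoc, ← hw, Category.assoc, hy, ← Category.assoc v, ← hw, Category.assoc,
        transp_comp e φ w']
    rw [← hg]
    show v ≫ lift _ _ ≫ a'.act = _
    rw [comp_lift_assoc, comp_lift_assoc, transp_act e φ hφ, ← h1]
  have compat : ∀ (W : Over (Spec (CommRingCat.of R))) (i j : W ⟶ V),
      i ≫ pullTo P q = j ≫ pullTo P q → i ≫ h = j ≫ h := by
    intro W i j hij
    let V₂ := pullObj V q
    let j₁ : V₂ ⟶ V := pullTo V q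
    let j₂ : V₂ ⟶ V :=
      Over.homMk (pullback.lift (pullTo V q ≫ pullTo P q).left (pullSnd V q).left
          ((Over.w _).trans (Over.w (pullSnd V q)).symm))
        (by
          show pullback.lift _ _ _ ≫ pullback.fst _ _ ≫ _ = _
          rw [pullback.lift_fst_assoc]
          exact Over.w (pullTo V q ≫ pullTo P q))
    have hj : j₂ ≫ pullTo P q = j₁ ≫ pullTo P q := Over.OverMorphism.ext (pullback.lift_fst _ _ _)
    haveI : Flat V.hom := by show Flat (pullback.fst _ _ ≫ P.hom); infer_instance
    haveI : Flat V₂.hom := by show Flat (pullback.fst _ _ ≫ V.hom); infer_instance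
    have huniv : j₁ ≫ h = j₂ ≫ h := by
      apply ext_generic K
      have ht₂ : pullback.snd V₂.hom e ≫ e = (pullObj V₂ e).hom := pullback.condition.symm
      refine (((Category.assoc _ _ h).symm.trans (gen (pullObj V₂ e) _ ht₂ (pullTo V₂ e ≫ j₁))).trans
        (Eq.trans ?_ ((Category.assoc _ _ h).symm.trans
          (gen (pullObj V₂ e) _ ht₂ (pullTo V₂ e ≫ j₂))).symm))
      rw [Category.assoc, Category.assoc, hj]
    let u : W ⟶ V₂ :=
      Over.homMk (pullback.lift i.left (j ≫ pullSnd P q).left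
          ((Over.w i).trans (Over.w (j ≫ pullSnd P q)).symm))
        (by
          show pullback.lift _ _ _ ≫ pullback.fst _ _ ≫ _ = _
          rw [pullback.lift_fst_assoc]
          exact Over.w i)
    have h1 : u ≫ j₁ = i := Over.OverMorphism.ext (pullback.lift_fst _ _ _)
    have h2 : u ≫ j₂ = j := by
      apply Over.OverMorphism.ext
      apply pullback.hom_ext
      · have := congrArg (fun m => m.left) (show (u ≫ j₂) ≫ pullTo P q = j ≫ pullTo P q by
          rw [Category.assoc, hj, ← Category.assoc, h1, hij])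
        exact this
      · show (u.left ≫ pullback.lift _ _ _) ≫ pullback.snd _ _ = _
        rw [Category.assoc, pullback.lift_snd]
        exact pullback.lift_snd _ _ _
    rw [← h1, ← h2, Category.assoc, Category.assoc, huniv]
  obtain ⟨f, hf, -⟩ := glue_points hq P (fun _ => h) fun _ _ W i j hij => compat W i j hij
  have fgen : ∀ (W : Over (Spec (CommRingCat.of R))) (t : W.left ⟶ Spec (CommRingCat.of K))
      (ht : t ≫ e = W.hom) (p : W ⟶ P), p ≫ f = transp e φ W t ht p := by
    intro W t ht p
    refine ext_points hq fun k => ?_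
    let v : pullObj W q ⟶ V :=
      Over.homMk (pullback.lift (pullTo W q ≫ p).left (pullSnd W q).left
          ((Over.w _).trans (Over.w (pullSnd W q)).symm))
        (by
          show pullback.lift _ _ _ ≫ pullback.fst _ _ ≫ _ = _
          rw [pullback.lift_fst_assoc]
          exact Over.w (pullTo W q ≫ p))
    have hv : v ≫ pullTo P q = pullTo W q ≫ p := Over.OverMorphism.ext (pullback.lift_fst _ _ _)
    have ht' : ((pullTo W q).left ≫ t) ≫ e = (pullObj W q).hom := by
      rw [Category.assoc, ht, Over.w]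
    rw [← Category.assoc, ← hv, Category.assoc, hf k, gen _ _ ht' v, hv, transp_comp e φ _ t ht]
  refine ⟨f, ?_⟩
  haveI : Flat (G ⊗ P).hom := by show Flat (pullback.fst _ _ ≫ G.hom); infer_instance
  apply ext_generic K
  have ht : pullback.snd (G ⊗ P).hom e ≫ e = (pullObj (G ⊗ P) e).hom := pullback.condition.symm
  let u := pullTo (G ⊗ P) e
  have e1 : u ≫ a.act = lift (u ≫ fst G P) (u ≫ snd G P) ≫ a.act := by
    rw [← comp_lift_assoc, lift_fst_snd, Category.id_comp]
  show u ≫ a.act ≫ f = u ≫ (G ◁ f) ≫ a'.act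
  rw [← Category.assoc, fgen _ _ ht, e1, transp_act e φ hφ, ← fgen _ _ ht, ← lift_whiskerLeft_assoc,
    ← comp_lift_assoc, lift_fst_snd, Category.id_comp]

end Groth.Agent.PrincBundLib
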