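import Groth.Agent.PrincBundLib.Descent

/-!
# Invariant morphisms and morphisms of torsors
-/

set_option linter.style.haveILetI false

universe u

open CategoryTheory CategoryTheory.Limits MonoidalCategory CartesianMonoidalCategory MonObj
  AlgebraicGeometry

noncomputable section

namespace Groth.Agent.PrincBundLib

variable {S : Scheme.{u}} {G X : Over S} [GrpObj G]

/-- Invariant morphisms out of a torsor factor uniquely through the base. -/
theorem existsUnique_invariant (a : AlgGrp.Action G X)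
    (ha : NonAbH1.IsTorsorFor Scheme.fpqcPrecoverage a) {Z : Over S} (φ : X ⟶ Z)
    (hφ : a.act ≫ φ = snd G X ≫ φ) : ∃! s : 𝟙_ (Over S) ⟶ Z, toUnit X ≫ s = φ := by
  have inv : ∀ {T : Over S} (e e' : T ⟶ X), e ≫ φ = e' ≫ φ := fun {T} e e' => by
    obtain ⟨g, rfl, -⟩ := (isIso_lift_snd_iff a.act).mp ha.1 T e e'
    rw [Category.assoc, hφ, lift_snd_assoc]
  obtain ⟨R, hR, hs⟩ := ha.2
  obtain ⟨K, P, c, rfl⟩ := R.exists_eq_ofArrows
  have hs' : ∀ k, ∃ x : P k ⟶ X.left, x ≫ X.hom = c k := fun k => hs _ (Presieve.ofArrows.mk k)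
  choose x hx using hs'
  let e : ∀ k, Over.mk (c k) ⟶ X := fun k => Over.homMk (x k) (hx k)
  obtain ⟨s, hs₁, -⟩ := glue_points hR (𝟙_ (Over S)) (fun k => pullSnd _ (c k) ≫ e k ≫ φ)
    fun k l R i j _ => by
      simpa only [Category.assoc] using inv (i ≫ pullSnd _ (c k) ≫ e k) (j ≫ pullSnd _ (c l) ≫ e l)
  have fac : ∀ {s s' : 𝟙_ (Over S) ⟶ Z}, toUnit X ≫ s = toUnit X ≫ s' → s = s' := fun {s s'} h =>
    ext_points hR fun k => by
      have ht : pullTo (𝟙_ (Over S)) (c k) = (pullSnd _ (c k) ≫ e k) ≫ toUnit X := toUnit_unique _ _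
      rw [ht, Category.assoc (pullSnd _ (c k) ≫ e k), h, ← Category.assoc (pullSnd _ (c k) ≫ e k)]
  refine ⟨s, ext_points hR fun k => ?_, fun s' hs' => fac (hs'.trans (ext_points hR fun k => ?_).symm)⟩
  all_goals
    let q : pullObj X (c k) ⟶ pullObj (𝟙_ (Over S)) (c k) :=
      Over.homMk (pullback.lift (pullback.fst X.hom (c k) ≫ X.hom) (pullback.snd X.hom (c k))
        ((Category.comp_id _).trans pullback.condition)) (by
        show pullback.lift _ _ _ ≫ pullback.fst _ (c k) ≫ _ = _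
        rw [pullback.lift_fst_assoc]
        exact Category.comp_id _)
    have hq : pullTo X (c k) ≫ toUnit X = q ≫ pullTo (𝟙_ (Over S)) (c k) := toUnit_unique _ _
    rw [← Category.assoc, hq, Category.assoc, hs₁]
    simpa only [Category.assoc] using inv (q ≫ pullSnd _ (c k) ≫ e k) (pullTo X (c k))

/-- Equivariant morphisms of torsors are isomorphisms. -/
theorem isIso_of_isEquivariant {X' : Over S} (a : AlgGrp.Action G X) (a' : AlgGrp.Action G X')
    (ha : NonAbH1.IsTorsorFor Scheme.fpqcPrecoverage a)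
    (ha' : NonAbH1.IsTorsorFor Scheme.fpqcPrecoverage a')
    (f : X ⟶ X') (hf : AlgGrp.Action.IsEquivariant a a' f) : IsIso f := by
  have tX := (isIso_lift_snd_iff a.act).mp ha.1
  have tX' := (isIso_lift_snd_iff a'.act).mp ha'.1
  have hfg : ∀ {T : Over S} (g : T ⟶ G) (e : T ⟶ X),
      lift g e ≫ a.act ≫ f = lift g (e ≫ f) ≫ a'.act := fun g e => by
    rw [hf, lift_whiskerLeft_assoc]
  have inj : ∀ {T : Over S} (e e' : T ⟶ X), e ≫ f = e' ≫ f → e = e' := fun {T} e e' h => by
    obtain ⟨g, rfl, -⟩ := tX T e e'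
    rw [Category.assoc, hfg] at h
    rw [(tX' T _ (e' ≫ f)).unique h (AlgGrp.Action.lift_one_act a' _), AlgGrp.Action.lift_one_act]
  obtain ⟨R, hR, hs⟩ := ha.2
  obtain ⟨K, P, c, rfl⟩ := R.exists_eq_ofArrows
  have hs' : ∀ k, ∃ x : P k ⟶ X.left, x ≫ X.hom = c k := fun k => hs _ (Presieve.ofArrows.mk k)
  choose x hx using hs'
  let e : ∀ k, Over.mk (c k) ⟶ X := fun k => Over.homMk (x k) (hx k)
  choose g hg _hg using fun k =>
    tX' (pullObj X' (c k)) (pullTo X' (c k)) ((pullSnd X' (c k) ≫ e k) ≫ f)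
  have hm : ∀ k, (lift (g k) (pullSnd X' (c k) ≫ e k) ≫ a.act) ≫ f = pullTo X' (c k) := fun k => by
    rw [Category.assoc, hfg]
    exact hg k
  obtain ⟨r, hr, -⟩ := glue_points hR X' (fun k => lift (g k) (pullSnd X' (c k) ≫ e k) ≫ a.act)
    fun k l R i j h => inj _ _ (by rw [Category.assoc i, Category.assoc j, hm, hm, h])
  have hrf : r ≫ f = 𝟙 X' := ext_points hR fun k => by rw [← Category.assoc, hr, hm, Category.comp_id]
  exact ⟨r, inj _ _ (by rw [Category.assoc, hrf, Category.comp_id, Category.id_comp]), hrf⟩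

end Groth.Agent.PrincBundLib
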