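import Groth.Agent.PrincBundLib.Invariant
import Groth.Prelude.Def_ActBC
import Mathlib

/-!
# Torsors with a section are trivial
-/

set_option linter.style.haveILetI false

universe u

open CategoryTheory MonoidalCategory CartesianMonoidalCategory MonObj AlgebraicGeometry

noncomputable section

namespace Groth.Agent.PrincBundLib

variable {S : Scheme.{u}} {G : Over S} [GrpObj G]

theorem equivIso_of_eqvGen' {K : Precoverage Scheme.{u}} {P Q : NonAbH1.TorsorSch G K}
    (h : Relation.EqvGen (fun P Q : NonAbH1.TorsorSch G K => Nonempty (NonAbH1.EquivIso P.act Q.act)) P Q) :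
    Nonempty (NonAbH1.EquivIso P.act Q.act) := by
  induction h with
  | rel _ _ h => exact h
  | refl X => exact ⟨⟨Iso.refl _, by simp⟩⟩
  | symm _ _ _ ih =>
    obtain ⟨e⟩ := ih
    refine ⟨⟨e.iso.symm, ?_⟩⟩
    rw [Iso.symm_hom, Iso.comp_inv_eq, Category.assoc, e.comm, ← Category.assoc,
      ← MonoidalCategory.whiskerLeft_comp, Iso.inv_hom_id, MonoidalCategory.whiskerLeft_id, Category.id_comp]
  | trans _ _ _ _ _ ih₁ ih₂ =>
    obtain ⟨e₁⟩ := ih₁
    obtain ⟨e₂⟩ := ih₂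
    refine ⟨⟨e₁.iso ≪≫ e₂.iso, ?_⟩⟩
    rw [Iso.trans_hom, ← Category.assoc, e₁.comm, Category.assoc, e₂.comm, ← Category.assoc,
      ← MonoidalCategory.whiskerLeft_comp]

theorem equivIso_of_cl_eq {K : Precoverage Scheme.{u}} {P Q : NonAbH1.TorsorSch G K}
    (h : P.cl = Q.cl) : Nonempty (NonAbH1.EquivIso P.act Q.act) :=
  equivIso_of_eqvGen' (Quot.eqvGen_exact h)

theorem hasSectionOver_of_cl_eq_one {K : Precoverage Scheme.{u}} [K.HasIsos]
    {P : NonAbH1.TorsorSch G K} (h : P.cl = 1) : NonAbH1.HasSectionOver P.X (𝟙 S) := by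
  obtain ⟨e⟩ := equivIso_of_cl_eq (P := P)
    (Q := ⟨G, NonAbH1.trivialAction G, NonAbH1.isTorsorFor_trivialAction G K⟩) h
  exact ⟨(η[G] ≫ e.iso.inv).left, Over.w (η[G] ≫ e.iso.inv)⟩

theorem cl_eq_one_of_hasSection {K : Precoverage Scheme.{u}} [K.HasIsos]
    (P : NonAbH1.TorsorSch G K) (hP : NonAbH1.IsTorsorFor Scheme.fpqcPrecoverage P.act)
    (h : NonAbH1.HasSectionOver P.X (𝟙 S)) : P.cl = 1 := by
  obtain ⟨σ, hσ⟩ := h
  let x : 𝟙_ (Over S) ⟶ P.X := Over.homMk σ hσ
  let f : G ⟶ P.X := lift (𝟙 G) (toUnit G ≫ x) ≫ P.act.act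
  have hf : AlgGrp.Action.IsEquivariant (NonAbH1.trivialAction G) P.act f := by
    show μ[G] ≫ f = _
    rw [← Category.comp_id (G ◁ f), Category.assoc, Category.id_comp]
    have h1 : G ◁ f = lift (fst G G) (snd G G ≫ f) := by
      apply CartesianMonoidalCategory.hom_ext <;> simp
    rw [h1]
    show μ[G] ≫ lift (𝟙 G) (toUnit G ≫ x) ≫ P.act.act = _
    rw [comp_lift_assoc, Category.comp_id, ← Category.assoc, comp_toUnit, comp_lift_assoc]
    simp only [f, comp_lift, ← Category.assoc, comp_toUnit, Category.comp_id]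
    have h2 : μ[G] = fst G G * snd G G := by
      rw [Hom.mul_def, lift_fst_snd, Category.id_comp]
    rw [h2, AlgGrp.Action.lift_mul_act]
  haveI : IsIso f := isIso_of_isEquivariant _ P.act
    ⟨(NonAbH1.isTorsorFor_trivialAction G Scheme.fpqcPrecoverage).1,
      (NonAbH1.isTorsorFor_trivialAction G Scheme.fpqcPrecoverage).2⟩ hP f hf
  exact (Quot.sound ⟨⟨asIso f, hf⟩⟩).symm

end Groth.Agent.PrincBundLib
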