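import Groth.Agent.PrincBundLib.Reduction

/-!
# Pseudo-torsors on points and descent
-/

set_option linter.style.haveILetI false

universe u

open CategoryTheory CategoryTheory.Limits MonoidalCategory CartesianMonoidalCategory MonObj
  AlgebraicGeometry

noncomputable section

namespace Groth.Agent.PrincBundLib

variable {S : Scheme.{u}} {G X : Over S} [GrpObj G]

omit [GrpObj G] in
theorem isIso_lift_snd_iff {U : Over S} (m : G ⊗ U ⟶ X) :
    IsIso (lift m (snd G U)) ↔
      ∀ (T : Over S) (x : T ⟶ X) (w : T ⟶ U), ∃! g : T ⟶ G, lift g w ≫ m = x := by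
  constructor
  · intro h T x w
    obtain ⟨t, ht⟩ : ∃ t, t ≫ lift m (snd G U) = lift x w :=
      ⟨lift x w ≫ inv (lift m (snd G U)),
        by rw [Category.assoc, IsIso.inv_hom_id, Category.comp_id]⟩
    have hw : t ≫ snd G U = w := by
      simpa only [Category.assoc, lift_snd] using congrArg (fun k => k ≫ snd X U) ht
    refine ⟨t ≫ fst G U, ?_, fun g hg => ?_⟩
    · show lift (t ≫ fst G U) w ≫ m = x
      rw [show lift (t ≫ fst G U) w = t by rw [← hw, ← comp_lift, lift_fst_snd, Category.comp_id]]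
      simpa only [Category.assoc, lift_fst] using congrArg (fun k => k ≫ fst X U) ht
    · have : lift g w ≫ lift m (snd G U) = t ≫ lift m (snd G U) := by
        rw [ht, comp_lift, lift_snd, hg]
      rw [← (cancel_mono (lift m (snd G U))).mp this, lift_fst]
  · intro h
    obtain ⟨g, hg, -⟩ := h (X ⊗ U) (fst X U) (snd X U)
    refine ⟨⟨lift g (snd X U), ?_, ?_⟩⟩
    · rw [comp_lift, lift_snd]
      apply CartesianMonoidalCategory.hom_ext
      · rw [lift_fst, Category.id_comp]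
        obtain ⟨g₀, -, hu⟩ := h (G ⊗ U) m (snd G U)
        have e₁ := congrArg (fun k => lift m (snd G U) ≫ k) hg
        simp only [comp_lift_assoc, lift_fst, lift_snd] at e₁
        exact (hu _ e₁).trans (hu (fst G U)
          (by show lift (fst G U) (snd G U) ≫ m = m; rw [lift_fst_snd, Category.id_comp])).symm
      · rw [lift_snd, Category.id_comp]
    · rw [comp_lift, lift_snd]
      apply CartesianMonoidalCategory.hom_ext
      · rw [lift_fst, hg, Category.id_comp]
      · rw [lift_snd, Category.id_comp]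

/-- The members of the pulled-back covering, over the base. -/
abbrev pullObj (T : Over S) {P : Scheme.{u}} (c : P ⟶ S) : Over S :=
  Over.mk (pullback.fst T.hom c ≫ T.hom)

/-- The member of the pulled-back covering mapping to the test object. -/
abbrev pullTo (T : Over S) {P : Scheme.{u}} (c : P ⟶ S) : pullObj T c ⟶ T :=
  Over.homMk (pullback.fst T.hom c)

/-- The member of the pulled-back covering mapping to the covering. -/
def pullSnd (T : Over S) {P : Scheme.{u}} (c : P ⟶ S) : pullObj T c ⟶ Over.mk c :=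
  Over.homMk (pullback.snd T.hom c) pullback.condition.symm

/-- Every covering of the base pulls back to every test object. -/
theorem glue_points {K : Type*} {P : K → Scheme.{u}} {c : ∀ k, P k ⟶ S}
    (hc : Presieve.ofArrows P c ∈ Scheme.fpqcPrecoverage S) (T : Over S) {Z : Over S}
    (m : ∀ k, pullObj T (c k) ⟶ Z)
    (compat : ∀ k l (R : Over S) (a : R ⟶ pullObj T (c k)) (b : R ⟶ pullObj T (c l)),
      a ≫ pullTo T (c k) = b ≫ pullTo T (c l) → a ≫ m k = b ≫ m l) :
    ∃! g : T ⟶ Z, ∀ k, pullTo T (c k) ≫ g = m k :=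
  glue_over (T := T) (Precoverage.mem_coverings_of_isPullback c hc T.hom
    (fun k => pullback.fst T.hom (c k)) (fun k => pullback.snd _ _)
    fun k => IsPullback.of_hasPullback _ _) m
    fun k l R a b e => compat k l R a b (Over.OverMorphism.ext e)

theorem ext_points {K : Type*} {P : K → Scheme.{u}} {c : ∀ k, P k ⟶ S}
    (hc : Presieve.ofArrows P c ∈ Scheme.fpqcPrecoverage S) {T Z : Over S} {g g' : T ⟶ Z}
    (h : ∀ k, pullTo T (c k) ≫ g = pullTo T (c k) ≫ g') : g = g' :=
  (glue_points hc T (fun k => pullTo T (c k) ≫ g) fun k l R a b e => by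
    rw [← Category.assoc, e, Category.assoc]).unique (fun _ => rfl) fun k => (h k).symm

theorem orbit_eq (a : AlgGrp.Action G X) {U T : Over S} (s : U ⟶ X) (g : T ⟶ G) (w : T ⟶ U) :
    lift g w ≫ (G ◁ s) ≫ a.act = lift g (w ≫ s) ≫ a.act := by
  rw [lift_whiskerLeft_assoc]

theorem isTorsorFor_fpqc_iff (a : AlgGrp.Action G X) :
    NonAbH1.IsTorsorFor Scheme.fpqcPrecoverage a ↔
      ∃ R ∈ Scheme.fpqcPrecoverage S, ∀ ⦃S' : Scheme.{u}⦄ (f : S' ⟶ S), R f →
        ∃ s : Over.mk f ⟶ X, IsIso (lift ((G ◁ s) ≫ a.act) (snd G (Over.mk f))) := by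
  constructor
  · rintro ⟨hps, R, hR, hs⟩
    refine ⟨R, hR, fun S' f hf => ?_⟩
    obtain ⟨s, hs⟩ := hs f hf
    refine ⟨Over.homMk s hs, (isIso_lift_snd_iff _).mpr fun T x w => ?_⟩
    simp only [orbit_eq]
    exact (isIso_lift_snd_iff a.act).mp hps T x _
  · rintro ⟨R, hR, hs⟩
    refine ⟨(isIso_lift_snd_iff a.act).mpr ?_, R, hR, fun S' f hf => ?_⟩
    swap
    · obtain ⟨s, -⟩ := hs f hf
      exact ⟨s.left, Over.w s⟩
    obtain ⟨K, P, c, rfl⟩ := R.exists_eq_ofArrows
    have hs' : ∀ k, ∃ s : Over.mk (c k) ⟶ X,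
        IsIso (lift ((G ◁ s) ≫ a.act) (snd G (Over.mk (c k)))) :=
      fun k => hs _ (Presieve.ofArrows.mk k)
    choose s hiso using hs'
    have loc : ∀ k (V : Over S) (w : V ⟶ Over.mk (c k)) (x x' : V ⟶ X),
        ∃! g : V ⟶ G, lift g x' ≫ a.act = x := by
      intro k V w x x'
      have h := (isIso_lift_snd_iff _).mp (hiso k) V
      simp only [orbit_eq] at h
      obtain ⟨t, ht, hu⟩ := h x w
      obtain ⟨t', ht', -⟩ := h x' w
      refine ⟨t * t'⁻¹, ?_, fun g hg => ?_⟩
      · show lift (t * t'⁻¹) x' ≫ a.act = x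
        rw [← ht', ← AlgGrp.Action.lift_mul_act, inv_mul_cancel_right, ht]
      · have e : g * t' = t := hu _ (by
          show lift (g * t') (w ≫ s k) ≫ a.act = x
          rw [AlgGrp.Action.lift_mul_act, ht', hg])
        rw [← e, mul_inv_cancel_right]
    intro T x x'
    have hloc : ∀ k, ∃! g, lift g (pullTo T (c k) ≫ x') ≫ a.act = pullTo T (c k) ≫ x :=
      fun k => loc k _ (pullSnd T (c k)) _ _
    choose m hm hmu using fun k => (hloc k).exists.elim fun g hg =>
      (⟨g, hg, fun g' hg' => (hloc k).unique hg' hg⟩ :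
        ∃ g, lift g (pullTo T (c k) ≫ x') ≫ a.act = pullTo T (c k) ≫ x ∧
          ∀ g', lift g' (pullTo T (c k) ≫ x') ≫ a.act = pullTo T (c k) ≫ x → g' = g)
    obtain ⟨g, hg, -⟩ := glue_points hR T m fun k l V i j e => by
      refine (loc k V (i ≫ pullSnd T (c k)) (i ≫ pullTo T (c k) ≫ x)
        (i ≫ pullTo T (c k) ≫ x')).unique ?_ ?_
      · rw [← comp_lift, Category.assoc, hm]
      · rw [← Category.assoc i, ← Category.assoc i, e, Category.assoc, Category.assoc, ← comp_lift,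
          Category.assoc, hm]
    refine ⟨g, ext_points hR fun k => ?_, fun g' hg' => ext_points hR fun k => ?_⟩
    · rw [← Category.assoc, comp_lift, hg, hm]
    · refine (hmu k _ ?_).trans (hg k).symm
      rw [← comp_lift, Category.assoc, hg']

theorem existsUnique_pushMap {J J' J'' P P' P'' : Over S} [GrpObj J] [GrpObj J'] [GrpObj J'']
    (u : J ⟶ J') [IsMonHom u] (v : J' ⟶ J'') [IsMonHom v]
    (a : AlgGrp.Action J P) (a' : AlgGrp.Action J' P') (a'' : AlgGrp.Action J'' P'')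
    (hP : NonAbH1.IsTorsorFor Scheme.fpqcPrecoverage a)
    (hP' : NonAbH1.IsTorsorFor Scheme.fpqcPrecoverage a')
    (q' : P ⟶ P') (hq' : a.act ≫ q' = lift (fst J P ≫ u) (snd J P ≫ q') ≫ a'.act)
    (q'' : P ⟶ P'') (hq'' : a.act ≫ q'' = lift (fst J P ≫ u ≫ v) (snd J P ≫ q'') ≫ a''.act) :
    ∃! r : P' ⟶ P'', a'.act ≫ r = lift (fst J' P' ≫ v) (snd J' P' ≫ r) ≫ a''.act ∧
      q' ≫ r = q'' := by
  have tP := (isIso_lift_snd_iff a.act).mp hP.1
  have tP' := (isIso_lift_snd_iff a'.act).mp hP'.1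
  obtain ⟨R, hR, hs⟩ := hP.2
  obtain ⟨K, C, c, rfl⟩ := R.exists_eq_ofArrows
  have hs' : ∀ k, ∃ s : C k ⟶ P.left, s ≫ P.hom = c k := fun k => hs _ (Presieve.ofArrows.mk k)
  choose s hs using hs'
  let p : ∀ k, Over.mk (c k) ⟶ P := fun k => Over.homMk (s k) (hs k)
  have nq' : ∀ {V : Over S} (j : V ⟶ J) (e : V ⟶ P),
      lift j e ≫ a.act ≫ q' = lift (j ≫ u) (e ≫ q') ≫ a'.act := fun j e => by
    rw [hq', comp_lift_assoc, lift_fst_assoc, lift_snd_assoc]
  have nq'' : ∀ {V : Over S} (j : V ⟶ J) (e : V ⟶ P),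
      lift j e ≫ a.act ≫ q'' = lift ((j ≫ u) ≫ v) (e ≫ q'') ≫ a''.act := fun j e => by
    rw [hq'', comp_lift_assoc, lift_fst_assoc, lift_snd_assoc, Category.assoc]
  have wd : ∀ {V : Over S} (g g₁ : V ⟶ J') (e e₁ : V ⟶ P),
      lift g (e ≫ q') ≫ a'.act = lift g₁ (e₁ ≫ q') ≫ a'.act →
        lift (g ≫ v) (e ≫ q'') ≫ a''.act = lift (g₁ ≫ v) (e₁ ≫ q'') ≫ a''.act := by
    intro V g g₁ e e₁ h
    obtain ⟨j, rfl, -⟩ := tP V e₁ e
    simp only [Category.assoc, nq', nq'', ← AlgGrp.Action.lift_mul_act] at h ⊢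
    rw [← Category.assoc j u v, ← MonObj.mul_comp, (tP' V _ (e ≫ q')).unique h rfl]
  choose g₀ hg₀ hg₀u using fun k => tP' (pullObj P' (c k)) (pullTo P' (c k))
    (pullSnd P' (c k) ≫ p k ≫ q')
  obtain ⟨r, hr, -⟩ := glue_points hR P'
    (fun k => lift (g₀ k ≫ v) (pullSnd P' (c k) ≫ p k ≫ q'') ≫ a''.act) fun k l V i j e => by
    have h := wd (i ≫ g₀ k) (j ≫ g₀ l) (i ≫ pullSnd P' (c k) ≫ p k)
      (j ≫ pullSnd P' (c l) ≫ p l) (by
      simp only [Category.assoc, ← comp_lift_assoc]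
      simp only at hg₀
      rw [hg₀, hg₀, e])
    simpa only [Category.assoc, ← comp_lift_assoc] using h
  have key : ∀ {V : Over S} (g : V ⟶ J') (e : V ⟶ P),
      lift g (e ≫ q') ≫ a'.act ≫ r = lift (g ≫ v) (e ≫ q'') ≫ a''.act := by
    intro V g e
    refine ext_points hR fun k => ?_
    let x := lift g (e ≫ q') ≫ a'.act
    let y : pullObj V (c k) ⟶ pullObj P' (c k) :=
      Over.homMk (pullback.lift ((pullTo V (c k) ≫ x).left) (pullback.snd V.hom (c k))
        ((Over.w (pullTo V (c k) ≫ x)).trans pullback.condition)) (by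
        show pullback.lift _ _ _ ≫ pullback.fst P'.hom (c k) ≫ P'.hom = _
        rw [pullback.lift_fst_assoc]
        exact Over.w (pullTo V (c k) ≫ x))
    have hy : y ≫ pullTo P' (c k) = pullTo V (c k) ≫ x :=
      Over.OverMorphism.ext (pullback.lift_fst _ _ _)
    have h := wd (y ≫ g₀ k) (pullTo V (c k) ≫ g) (y ≫ pullSnd P' (c k) ≫ p k)
      (pullTo V (c k) ≫ e) (by
      simp only [Category.assoc, ← comp_lift_assoc]
      simp only at hg₀
      rw [hg₀, hy])
    simp only [Category.assoc, ← comp_lift_assoc] at h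
    rw [← h, ← hr k, reassoc_of% hy]
    simp only [x, Category.assoc]
  refine ⟨r, ⟨AlgGrp.Action.hom_ext_lift₂ fun V g x => ext_points hR fun k => ?_, ?_⟩, fun r' ⟨hr₁, hr₂⟩ => ?_⟩
  · let e := pullSnd V (c k) ≫ p k
    obtain ⟨h, hh, -⟩ := tP' _ (pullTo V (c k) ≫ x) (e ≫ q')
    have e₁ : lift (pullTo V (c k) ≫ g) (pullTo V (c k) ≫ x) ≫ a'.act ≫ r =
        lift ((pullTo V (c k) ≫ g * h) ≫ v) (e ≫ q'') ≫ a''.act := by
      rw [← hh, ← AlgGrp.Action.lift_mul_act_assoc, key]
    have e₂ : pullTo V (c k) ≫ x ≫ r = lift (h ≫ v) (e ≫ q'') ≫ a''.act := by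
      rw [← Category.assoc, ← hh, Category.assoc, key]
    simp only [comp_lift_assoc, lift_fst_assoc, lift_snd_assoc]
    rw [e₁, e₂, MonObj.mul_comp, AlgGrp.Action.lift_mul_act, Category.assoc]
  · have h := key (1 : P ⟶ J') (𝟙 P)
    rw [Category.id_comp, ← Category.assoc, AlgGrp.Action.lift_one_act] at h
    rw [h, MonObj.one_comp, AlgGrp.Action.lift_one_act, Category.id_comp]
  · refine ext_points hR fun k => ?_
    have hk := hr k
    rw [hk]
    conv_lhs => rw [← hg₀ k]
    rw [Category.assoc, hr₁, comp_lift_assoc, lift_fst_assoc, lift_snd_assoc]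
    simp only [Category.assoc, hr₂]

end Groth.Agent.PrincBundLib
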