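import Groth.Agent.PrincBundLib.GenericExt
import Groth.Agent.DomDVR.FiniteExt
import Groth.Agent.NormalSch.DedekindExt

/-!
# Dedekind quasi-sections
-/

set_option linter.style.haveILetI false
set_option backward.isDefEq.respectTransparency false

universe u

open CategoryTheory CategoryTheory.Limits AlgebraicGeometry

noncomputable section

namespace Groth.Agent.PrincBundLib

/-- A point over a finite extension of a field. -/
theorem exists_finite_point (K : Type u) [Field K] {X : Scheme.{u}} (f : X ⟶ Spec (CommRingCat.of K))
    [LocallyOfFiniteType f] [Nonempty X] :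
    ∃ (L : Type u) (_ : Field L) (_ : Algebra K L), FiniteDimensional K L ∧
      ∃ z : Spec (CommRingCat.of L) ⟶ X, z ≫ f = Spec.map (CommRingCat.ofHom (algebraMap K L)) := by
  haveI : JacobsonSpace X := LocallyOfFiniteType.jacobsonSpace f
  obtain ⟨x, -, hx⟩ := nonempty_inter_closedPoints (Z := (Set.univ : Set X)) Set.univ_nonempty
    isOpen_univ.isLocallyClosed
  haveI : IsClosedImmersion (X.fromSpecResidueField x) :=
    isClosed_singleton_iff_isClosedImmersion.1 (mem_closedPoints_iff.mp hx)
  obtain ⟨φ, hφ⟩ := Spec.map_surjective (X.fromSpecResidueField x ≫ f)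
  letI : Algebra K (X.residueField x) := φ.hom.toAlgebra
  haveI : Algebra.FiniteType K (X.residueField x) := by
    have h : LocallyOfFiniteType (Spec.map φ) := by rw [hφ]; infer_instance
    exact (HasRingHomProperty.Spec_iff (P := @LocallyOfFiniteType)).1 h
  exact ⟨X.residueField x, inferInstance, inferInstance, finite_of_finite_type_of_isJacobsonRing K _,
    X.fromSpecResidueField x, hφ.symm⟩

/-- Points over the fraction field of a Dedekind domain of a proper scheme extend. -/
theorem exists_extend_dedekind (C L : Type u) [CommRing C] [IsDedekindDomain C] [Field L] [Algebra C L]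
    [IsFractionRing C L] {S Y : Scheme.{u}} (q : Spec (CommRingCat.of C) ⟶ S) (sY : Y ⟶ S) [IsProper sY]
    (σ : Spec (CommRingCat.of L) ⟶ Y)
    (hσ : σ ≫ sY = Spec.map (CommRingCat.ofHom (algebraMap C L)) ≫ q) :
    ∃ g : Spec (CommRingCat.of C) ⟶ Y, g ≫ sY = q ∧ Spec.map (CommRingCat.ofHom (algebraMap C L)) ≫ g = σ := by
  haveI : IsDomain (CommRingCat.of C) := inferInstanceAs (IsDomain C)
  haveI : IsNoetherianRing (CommRingCat.of C) := inferInstanceAs (IsNoetherianRing C)
  haveI : AlgebraicGeometry.IsNoetherian (Spec (CommRingCat.of C)) := inferInstance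
  let F := (Spec (CommRingCat.of C)).functionField
  letI : Algebra C F := AlgebraicGeometry.instAlgebraCarrierFunctionFieldSpec (CommRingCat.of C)
  haveI : IsFractionRing C F := AlgebraicGeometry.functionField_isFractionRing_of_affine (CommRingCat.of C)
  let ψ : L ≃ₐ[C] F := IsLocalization.algEquiv (nonZeroDivisors C) L F
  have hX : ∀ x : Spec (CommRingCat.of C), x ≠ genericPoint (Spec (CommRingCat.of C)) →
      ∃ _ : IsDomain ((Spec (CommRingCat.of C)).presheaf.stalk x),
        IsDiscreteValuationRing ((Spec (CommRingCat.of C)).presheaf.stalk x) := by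
    intro x hx
    have hp : x.asIdeal ≠ ⊥ := fun hb => hx (by
      rw [genericPoint_eq_bot_of_affine]
      exact PrimeSpectrum.ext hb)
    letI : Algebra C ((Spec (CommRingCat.of C)).presheaf.stalk x) := StructureSheaf.stalkAlgebra C x
    haveI : IsLocalization.AtPrime ((Spec (CommRingCat.of C)).presheaf.stalk x) x.asIdeal :=
      StructureSheaf.IsLocalization.to_stalk C x
    haveI : IsDomain ((Spec (CommRingCat.of C)).presheaf.stalk x) :=
      IsLocalization.isDomain_of_le_nonZeroDivisors (R := C)
        (S := (Spec (CommRingCat.of C)).presheaf.stalk x) (x.asIdeal.primeCompl_le_nonZeroDivisors)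
    exact ⟨inferInstance, IsLocalization.AtPrime.isDiscreteValuationRing_of_dedekind_domain C hp _⟩
  obtain ⟨g, hg, hgen⟩ := Groth.Agent.NormalSch.exists_extension_of_generic hX q sY
    (Spec.map (CommRingCat.ofHom ψ.toAlgHom.toRingHom) ≫ σ) (by
      rw [Category.assoc, hσ, Spec.fromSpecStalk_eq', ← Category.assoc, ← Spec.map_comp]
      congr 2
      ext r
      exact ψ.commutes r)
  refine ⟨g, hg, ?_⟩
  have h1 : Spec.map (CommRingCat.ofHom (algebraMap C L)) =
      Spec.map (CommRingCat.ofHom ψ.symm.toAlgHom.toRingHom) ≫
        (Spec (CommRingCat.of C)).fromSpecStalk (genericPoint (Spec (CommRingCat.of C))) := by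
    rw [Spec.fromSpecStalk_eq', ← Spec.map_comp]
    congr 1
    ext r
    exact (ψ.symm.commutes r).symm
  rw [h1, Category.assoc, hgen, ← Category.assoc, ← Spec.map_comp]
  conv_rhs => rw [← Category.id_comp σ, ← Spec.map_id]
  congr 2
  ext r
  exact ψ.symm_apply_apply r

variable {R : Type u} [CommRing R] [IsDedekindDomain R] (K : Type u) [Field K] [Algebra R K] [IsFractionRing R K]

/-- A faithfully flat quasi-section by the spectrum of a Dedekind domain. -/
theorem exists_quasiSection (P : Over (Spec (CommRingCat.of R))) [IsProper P.hom] [Surjective P.hom] :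
    ∃ (C L : Type u) (_ : CommRing C) (_ : IsDedekindDomain C) (_ : Field L) (_ : Algebra C L)
      (_ : IsFractionRing C L) (_ : Algebra R C) (_ : Algebra R L) (_ : IsScalarTower R C L)
      (_ : Algebra K L) (_ : IsScalarTower R K L),
      IsLocalization (Algebra.algebraMapSubmonoid C (nonZeroDivisors R)) L ∧
      Flat (Spec.map (CommRingCat.ofHom (algebraMap R C))) ∧
      Surjective (Spec.map (CommRingCat.ofHom (algebraMap R C))) ∧
      Nonempty (Over.mk (Spec.map (CommRingCat.ofHom (algebraMap R C))) ⟶ P) := by
  let e := Spec.map (CommRingCat.ofHom (algebraMap R K))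
  haveI : Nonempty (pullback P.hom e : Scheme.{u}) := by
    obtain ⟨z, -⟩ := (inferInstance : Surjective (pullback.snd P.hom e)).surj
      (IsLocalRing.closedPoint K)
    exact ⟨z⟩
  obtain ⟨L, _, _, _, z, hz⟩ := exists_finite_point K (pullback.snd P.hom e)
  letI : Algebra R L := ((algebraMap K L).comp (algebraMap R K)).toAlgebra
  haveI : IsScalarTower R K L := IsScalarTower.of_algebraMap_eq fun _ => rfl
  let C := integralClosure R L
  haveI : IsDedekindDomain C := Groth.Agent.DomDVR.isDedekindDomain_integralClosure_finite R K L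
  haveI : IsFractionRing C L := integralClosure.isFractionRing_of_finite_extension K L
  haveI : IsLocalization (Algebra.algebraMapSubmonoid C (nonZeroDivisors R)) L :=
    IsIntegralClosure.isLocalization R K L C
  have hinjL : Function.Injective (algebraMap R L) :=
    (algebraMap K L).injective.comp (IsFractionRing.injective R K)
  have hinj : Function.Injective (algebraMap R C) := fun a b h =>
    hinjL (congrArg (Subtype.val : C → L) h)
  haveI : FaithfulSMul R C := (faithfulSMul_iff_algebraMap_injective R C).mpr hinj
  haveI : Module.IsTorsionFree R C := inferInstance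
  haveI hfl : Flat (Spec.map (CommRingCat.ofHom (algebraMap R C))) :=
    (HasRingHomProperty.Spec_iff (P := @Flat)).mpr (RingHom.flat_algebraMap_iff.mpr inferInstance)
  haveI hsj : Surjective (Spec.map (CommRingCat.ofHom (algebraMap R C))) :=
    ⟨PrimeSpectrum.comap_surjective_of_faithfullyFlat⟩
  refine ⟨C, L, inferInstance, inferInstance, inferInstance, inferInstance, inferInstance, inferInstance,
    inferInstance, inferInstance, inferInstance, inferInstance, inferInstance, hfl, hsj, ?_⟩
  obtain ⟨g, hg, -⟩ := exists_extend_dedekind C L (Spec.map (CommRingCat.ofHom (algebraMap R C))) P.hom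
    (z ≫ pullback.fst P.hom e) (by
      rw [Category.assoc, pullback.condition, reassoc_of% hz, ← Spec.map_comp, ← Spec.map_comp]
      congr 1)
  exact ⟨Over.homMk g hg⟩

end Groth.Agent.PrincBundLib
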