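import Groth.Prelude.Def_ChGrp
import Groth.Prelude.Def_NonAbH2
import Groth.Agent.SchDesc.FullFaith
import Mathlib.AlgebraicGeometry.Sites.Proetale

/-!
# Reductions of the structure group
-/

set_option linter.style.haveILetI false

universe u

open CategoryTheory CategoryTheory.Limits MonoidalCategory CartesianMonoidalCategory MonObj
  AlgebraicGeometry

noncomputable section

namespace Groth.Agent.PrincBundLib

variable {S : Scheme.{u}} {G F Q : Over S} [GrpObj G] (A : AlgGrp.Action G F) (π : F ⟶ Q)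
  (hsq : IsPullback A.act (snd G F) π π)

include hsq in
theorem act_π {T : Over S} (g : T ⟶ G) (x : T ⟶ F) : lift g x ≫ A.act ≫ π = x ≫ π := by
  rw [hsq.w, lift_snd_assoc]

include hsq in
theorem exists_act {T : Over S} (x x' : T ⟶ F) (h : x ≫ π = x' ≫ π) :
    ∃ g : T ⟶ G, lift g x' ≫ A.act = x := by
  refine ⟨hsq.lift x x' h ≫ fst G F, ?_⟩
  have e : lift (hsq.lift x x' h ≫ fst G F) x' = hsq.lift x x' h := by
    apply CartesianMonoidalCategory.hom_ext
    · rw [lift_fst]
    · rw [lift_snd, hsq.lift_snd]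
  rw [e, hsq.lift_fst]

include hsq in
theorem act_inj {T : Over S} (g g' : T ⟶ G) (x : T ⟶ F)
    (h : lift g x ≫ A.act = lift g' x ≫ A.act) : g = g' := by
  have e : lift g x = lift g' x := hsq.hom_ext h (by rw [lift_snd, lift_snd])
  simpa using congrArg (fun k => k ≫ fst G F) e

variable (σ : 𝟙_ (Over S) ⟶ Q)

include hsq in
theorem pull_cond : (G ◁ pullback.fst π σ ≫ A.act) ≫ π = toUnit (G ⊗ pullback π σ) ≫ σ := by
  rw [Category.assoc, hsq.w, whiskerLeft_snd_assoc, pullback.condition, ← Category.assoc]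
  exact congrArg (fun k => k ≫ σ) (toUnit_unique _ _)

/-- The action on the fibre over a section of the quotient. -/
def pullAct : AlgGrp.Action G (pullback π σ) where
  act := pullback.lift (G ◁ pullback.fst π σ ≫ A.act) (toUnit _) (pull_cond A π hsq σ)
  one_act := by
    apply pullback.hom_ext
    · rw [Category.assoc, pullback.lift_fst, ← whisker_exchange_assoc, A.one_act,
        leftUnitor_naturality]
    · exact toUnit_unique _ _
  mul_act := by
    apply pullback.hom_ext
    · apply AlgGrp.Action.hom_ext_lift₃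
      intro T g g' x
      simp only [Category.assoc, pullback.lift_fst]
      rw [lift_whiskerRight_assoc, ← Hom.mul_def, lift_whiskerLeft_assoc,
        AlgGrp.Action.lift_mul_act, lift_lift_associator_hom_assoc, lift_whiskerLeft_assoc,
        lift_whiskerLeft_assoc, Category.assoc, pullback.lift_fst, lift_whiskerLeft_assoc]
    · exact toUnit_unique _ _

theorem pullAct_fst : (pullAct A π hsq σ).act ≫ pullback.fst π σ = G ◁ pullback.fst π σ ≫ A.act :=
  pullback.lift_fst _ _ _

theorem lift_pullAct_fst {T : Over S} (g : T ⟶ G) (e : T ⟶ pullback π σ) :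
    lift g e ≫ (pullAct A π hsq σ).act ≫ pullback.fst π σ =
      lift g (e ≫ pullback.fst π σ) ≫ A.act := by
  rw [pullAct_fst, lift_whiskerLeft_assoc]

theorem isPseudoTorsor_pullAct : NonAbH1.IsPseudoTorsorSch (pullAct A π hsq σ) := by
  have hp : (fst (pullback π σ) (pullback π σ) ≫ pullback.fst π σ) ≫ π = (snd (pullback π σ) (pullback π σ) ≫ pullback.fst π σ) ≫ π := by
    simp only [Category.assoc, pullback.condition]
    rw [← Category.assoc, ← Category.assoc (snd (pullback π σ) (pullback π σ)), toUnit_unique (fst (pullback π σ) (pullback π σ) ≫ _) (snd (pullback π σ) (pullback π σ) ≫ _)]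
  obtain ⟨g, hg⟩ := exists_act A π hsq _ _ hp
  refine ⟨⟨lift g (snd (pullback π σ) (pullback π σ)), ?_, ?_⟩⟩
  · rw [comp_lift, lift_snd]
    apply CartesianMonoidalCategory.hom_ext
    · rw [lift_fst, Category.id_comp]
      refine act_inj A π hsq _ _ (snd G (pullback π σ) ≫ pullback.fst π σ) ?_
      have h := congrArg (fun k => lift (pullAct A π hsq σ).act (snd G (pullback π σ)) ≫ k) hg
      simp only [comp_lift_assoc, lift_fst_assoc, lift_snd_assoc] at h
      refine h.trans ?_
      show (pullAct A π hsq σ).act ≫ pullback.fst π σ = _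
      rw [← lift_pullAct_fst A π hsq σ, lift_fst_snd, Category.id_comp]
    · rw [lift_snd, Category.id_comp]
  · rw [comp_lift, lift_snd]
    apply CartesianMonoidalCategory.hom_ext
    · rw [lift_fst, Category.id_comp]
      apply pullback.hom_ext
      · rw [Category.assoc, lift_pullAct_fst, hg]
      · exact toUnit_unique _ _
    · rw [lift_snd, Category.id_comp]

omit [GrpObj G] in
theorem isLocallyTrivial_pullback
    (hloc : NonAbH1.IsLocallyTrivialFor Scheme.etalePrecoverage (Over.mk π.left : Over Q.left)) :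
    NonAbH1.IsLocallyTrivialFor Scheme.etalePrecoverage (pullback π σ) := by
  obtain ⟨R, hR, hs⟩ := hloc
  haveI : Scheme.etalePrecoverage.{u}.IsStableUnderBaseChange := by
    unfold Scheme.etalePrecoverage
    infer_instance
  refine ⟨_, Precoverage.pullbackArrows_mem σ.left hR, ?_⟩
  rintro T _ ⟨Z, h, hh⟩
  obtain ⟨s, hs⟩ := hs h hh
  let f : pullback h σ.left ⟶ S := pullback.snd h σ.left
  let x : Over.mk f ⟶ F := Over.homMk (pullback.fst h σ.left ≫ s) (by
    rw [Category.assoc, ← Over.w π, ← Category.assoc s]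
    erw [hs]
    rw [pullback.condition_assoc, Over.w σ]
    exact Category.comp_id _)
  let t : Over.mk f ⟶ 𝟙_ (Over S) := toUnit _
  have ht : t.left = f := by
    have := Over.w t
    exact (Category.comp_id _).symm.trans this
  let e : Over.mk f ⟶ pullback π σ := pullback.lift x t (by
    ext
    rw [Over.comp_left, Over.comp_left, ht]
    show (pullback.fst h σ.left ≫ s) ≫ π.left = _
    rw [Category.assoc]
    erw [hs]
    exact pullback.condition)
  exact ⟨e.left, Over.w e⟩

theorem isTorsorFor_pullAct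
    (hloc : NonAbH1.IsLocallyTrivialFor Scheme.etalePrecoverage (Over.mk π.left : Over Q.left)) :
    NonAbH1.IsTorsorFor Scheme.etalePrecoverage (pullAct A π hsq σ) :=
  ⟨isPseudoTorsor_pullAct A π hsq σ, isLocallyTrivial_pullback π σ hloc⟩

/-- Morphisms over the base glue along fpqc coverings. -/
theorem glue_over {T : Over S} {K : Type*} {P : K → Scheme.{u}} {c : ∀ k, P k ⟶ T.left}
    (hc : Presieve.ofArrows P c ∈ Scheme.fpqcPrecoverage T.left) {Z : Over S}
    (m : ∀ k, Over.mk (c k ≫ T.hom) ⟶ Z)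
    (compat : ∀ k l (R : Over S) (a : R ⟶ Over.mk (c k ≫ T.hom)) (b : R ⟶ Over.mk (c l ≫ T.hom)),
      a.left ≫ c k = b.left ≫ c l → a ≫ m k = b ≫ m l) :
    ∃! g : T ⟶ Z, ∀ k, (Over.homMk (c k) : Over.mk (c k ≫ T.hom) ⟶ T) ≫ g = m k := by
  have hc' : Presieve.ofArrows P c ∈ Scheme.fpqcPrecoverage T.left := hc
  obtain ⟨g, hg, hu⟩ := SchDesc.existsUnique_glue hc' (fun k => (m k).left) fun k l R a b e => by
    exact congrArg (fun j : _ ⟶ Z => j.left) (compat k l (Over.mk (a ≫ c k ≫ T.hom))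
      (Over.homMk a) (Over.homMk b (by
        show b ≫ c l ≫ T.hom = a ≫ c k ≫ T.hom
        rw [reassoc_of% e])) e)
  have hw : g ≫ Z.hom = T.hom := SchDesc.hom_ext_of_covering hc' fun k => by
    rw [reassoc_of% (hg k)]
    exact Over.w (m k)
  refine ⟨Over.homMk g hw, fun k => Over.OverMorphism.ext (hg k), fun g' hg' => ?_⟩
  exact Over.OverMorphism.ext (hu g'.left fun k => congrArg (fun j => j.left) (hg' k))

theorem hom_ext_over {T : Over S} {K : Type*} {P : K → Scheme.{u}} {c : ∀ k, P k ⟶ T.left}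
    (hc : Presieve.ofArrows P c ∈ Scheme.fpqcPrecoverage T.left) {Z : Over S} {g g' : T ⟶ Z}
    (h : ∀ k, (Over.homMk (c k) : Over.mk (c k ≫ T.hom) ⟶ T) ≫ g =
      (Over.homMk (c k) : Over.mk (c k ≫ T.hom) ⟶ T) ≫ g') : g = g' :=
  (glue_over hc (fun k => (Over.homMk (c k) : Over.mk (c k ≫ T.hom) ⟶ T) ≫ g)
    fun k l R a b e => by
      rw [← Category.assoc, ← Category.assoc,
        show a ≫ (Over.homMk (c k) : Over.mk (c k ≫ T.hom) ⟶ T) = b ≫ Over.homMk (c l) from
          Over.OverMorphism.ext e]).unique (fun _ => rfl) fun k => (h k).symm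

theorem etale_le_fpqc {T : Scheme.{u}} {R : Presieve T} (h : R ∈ Scheme.etalePrecoverage T) :
    R ∈ Scheme.fpqcPrecoverage T :=
  Scheme.proetalePrecoverage_le_fpqcPrecoverage _ (Scheme.etalePrecoverage_le_proetalePrecoverage _ h)

variable {E : Over S} (aE : AlgGrp.Action G E) (hE : NonAbH1.IsTorsorFor Scheme.etalePrecoverage aE)
  (φ : E ⟶ F) (hφ : AlgGrp.Action.IsEquivariant aE A φ)

include hE in
theorem exists_act_torsor {T : Over S} (e e' : T ⟶ E) : ∃ g : T ⟶ G, lift g e' ≫ aE.act = e := by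
  haveI : IsIso (lift aE.act (snd G E)) := hE.1
  obtain ⟨t, h1⟩ : ∃ t, t ≫ lift aE.act (snd G E) = lift e e' :=
    ⟨lift e e' ≫ inv (lift aE.act (snd G E)), by rw [Category.assoc, IsIso.inv_hom_id, Category.comp_id]⟩
  rw [comp_lift] at h1
  have hsnd : t ≫ snd G E = e' := by simpa using congrArg (fun k => k ≫ snd E E) h1
  have hfst : t ≫ aE.act = e := by simpa using congrArg (fun k => k ≫ fst E E) h1
  refine ⟨t ≫ fst G E, ?_⟩
  rw [← hfst, ← hsnd, ← comp_lift, lift_fst_snd, Category.comp_id]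

include hE hsq hφ in
theorem φπ_eq {T : Over S} (e e' : T ⟶ E) : e ≫ φ ≫ π = e' ≫ φ ≫ π := by
  obtain ⟨g, rfl⟩ := exists_act_torsor aE hE e e'
  rw [Category.assoc, reassoc_of% hφ, lift_whiskerLeft_assoc, act_π A π hsq, Category.assoc]

include hE hsq hφ in
theorem existsUnique_section : ∃! s : 𝟙_ (Over S) ⟶ Q, toUnit E ≫ s = φ ≫ π := by
  obtain ⟨R, hR, hs⟩ := hE.2
  obtain ⟨K, P, c, rfl⟩ := R.exists_eq_ofArrows
  have hs' : ∀ k, ∃ x : P k ⟶ E.left, x ≫ E.hom = c k := fun k => hs _ (Presieve.ofArrows.mk k)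
  choose x hx using hs'
  let xs : ∀ k, Over.mk (c k ≫ (𝟙_ (Over S)).hom) ⟶ E := fun k =>
    Over.homMk (x k) ((hx k).trans (Category.comp_id _).symm)
  obtain ⟨s, hs₁, hs₂⟩ := glue_over (T := 𝟙_ (Over S)) (P := P) (c := c)
    (etale_le_fpqc hR)
    (fun k => xs k ≫ φ ≫ π) fun k l R a b _ => by
      rw [← Category.assoc, ← Category.assoc b]
      exact φπ_eq A π hsq aE hE φ hφ _ _
  refine ⟨s, ?_, fun s' hs' => hs₂ s' fun k => ?_⟩
  · haveI : Scheme.etalePrecoverage.{u}.IsStableUnderBaseChange := by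
      unfold Scheme.etalePrecoverage
      infer_instance
    refine hom_ext_over (T := E) (etale_le_fpqc (Precoverage.mem_coverings_of_isPullback c hR E.hom
      (fun k => pullback.fst E.hom (c k)) (fun k => pullback.snd _ _)
      fun k => IsPullback.of_hasPullback _ _)) fun k => ?_
    let e : Over.mk (pullback.fst E.hom (c k) ≫ E.hom) ⟶ E := Over.homMk (pullback.fst E.hom (c k))
    let q : Over.mk (pullback.fst E.hom (c k) ≫ E.hom) ⟶ Over.mk (c k ≫ (𝟙_ (Over S)).hom) :=
      Over.homMk (pullback.snd _ _) (by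
        show pullback.snd _ _ ≫ c k ≫ _ = pullback.fst _ _ ≫ E.hom
        rw [pullback.condition]
        exact congrArg _ (Category.comp_id _))
    calc e ≫ toUnit E ≫ s = q ≫ (Over.homMk (c k) : _ ⟶ 𝟙_ (Over S)) ≫ s := by
          rw [← Category.assoc, ← Category.assoc q]
          exact congrArg (fun j => j ≫ s) (toUnit_unique _ _)
      _ = q ≫ xs k ≫ φ ≫ π := by rw [hs₁]
      _ = e ≫ φ ≫ π := by
          rw [← Category.assoc]
          exact φπ_eq A π hsq aE hE φ hφ _ _
  · rw [← hs', ← Category.assoc]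
    exact congrArg (fun j => j ≫ s') (toUnit_unique _ _)

include hE hsq hφ in
theorem isPullback_section (s : 𝟙_ (Over S) ⟶ Q) (hs : toUnit E ≫ s = φ ≫ π) :
    IsPullback φ (toUnit E) π s := by
  have huniq : ∀ {T : Over S} (e e' : T ⟶ E), e ≫ φ = e' ≫ φ → e = e' := fun {T} e e' h => by
    obtain ⟨g, rfl⟩ := exists_act_torsor aE hE e e'
    rw [Category.assoc, hφ, lift_whiskerLeft_assoc] at h
    have hg : g = 1 := act_inj A π hsq g 1 (e' ≫ φ) (by rw [h, AlgGrp.Action.lift_one_act])
    rw [hg, AlgGrp.Action.lift_one_act]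
  refine ⟨⟨hs.symm⟩, ⟨PullbackCone.isLimitAux' _ fun cone => Classical.indefiniteDescription _ ?_⟩⟩
  suffices ∃ e : cone.pt ⟶ E, e ≫ φ = cone.fst by
    obtain ⟨e, he⟩ := this
    exact ⟨e, he, toUnit_unique _ _, fun {m} hm _ => huniq m e (hm.trans he.symm)⟩
  obtain ⟨R, hR, hloc⟩ := hE.2
  obtain ⟨K, P, c, rfl⟩ := R.exists_eq_ofArrows
  have hs' : ∀ k, ∃ x : P k ⟶ E.left, x ≫ E.hom = c k := fun k => hloc _ (Presieve.ofArrows.mk k)
  choose x hx using hs'
  haveI : Scheme.etalePrecoverage.{u}.IsStableUnderBaseChange := by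
    unfold Scheme.etalePrecoverage
    infer_instance
  let T := cone.pt
  have hcov := etale_le_fpqc (Precoverage.mem_coverings_of_isPullback c hR T.hom
    (fun k => pullback.fst T.hom (c k)) (fun k => pullback.snd _ _)
    fun k => IsPullback.of_hasPullback _ _)
  let V := fun k => Over.mk (pullback.fst T.hom (c k) ≫ T.hom)
  let j : ∀ k, V k ⟶ T := fun k => Over.homMk (pullback.fst T.hom (c k))
  let e₀ : ∀ k, V k ⟶ E := fun k => Over.homMk (pullback.snd _ _ ≫ x k) (by
    show (pullback.snd _ _ ≫ x k) ≫ E.hom = pullback.fst _ _ ≫ T.hom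
    rw [Category.assoc, hx, pullback.condition])
  have hex : ∀ k, ∃ e : V k ⟶ E, e ≫ φ = j k ≫ cone.fst := fun k => by
    obtain ⟨g, hg⟩ := exists_act A π hsq (j k ≫ cone.fst) (e₀ k ≫ φ) (by
      rw [Category.assoc, Category.assoc, cone.condition, ← hs, ← Category.assoc,
        ← Category.assoc (e₀ k)]
      exact congrArg (fun q => q ≫ s) (toUnit_unique _ _))
    exact ⟨lift g (e₀ k) ≫ aE.act, by rw [Category.assoc, hφ, lift_whiskerLeft_assoc, hg]⟩
  choose m hm using hex
  obtain ⟨e, he, -⟩ := glue_over hcov m fun k l R a b hab => huniq _ _ (by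
    rw [Category.assoc, Category.assoc, hm, hm, ← Category.assoc, ← Category.assoc]
    exact congrArg (fun q => q ≫ cone.fst) (Over.OverMorphism.ext hab))
  exact ⟨e, hom_ext_over hcov fun k => by rw [← Category.assoc, he k, hm]⟩

end Groth.Agent.PrincBundLib
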